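import Cfsg.Agent.CoprimePair.Colour.Count
import Cfsg.Agent.OddPair.Imprimitive

/-!
Three colours for a solvable irreducible group of order prime to three on a binary vector space.
-/

set_option autoImplicit false
set_option linter.style.haveILetI false

namespace CfsgLib.CoprimePair.CharTwo

variable {B U : Type} [Group B] [AddCommGroup U] [DistribMulAction B U]

/-- The fixed vectors of one element. -/
def fixPts (b : B) : AddSubgroup U where
  carrier := {x | b • x = x}
  zero_mem' := smul_zero b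
  add_mem' {x y} hx hy := by
    show b • (x + y) = x + y
    rw [smul_add, hx, hy]
  neg_mem' {x} hx := by
    show b • (-x) = -x
    rw [smul_neg, hx]

theorem mem_fixPts {b : B} {x : U} : x ∈ fixPts b ↔ b • x = x := Iff.rfl

theorem eq_one_of_card [Finite U] [FaithfulSMul B U] {b : B} (h : Nat.card (fixPts b : AddSubgroup U) = Nat.card U) :
    b = 1 := by
  have e := AddSubgroup.eq_top_of_card_eq _ h
  refine FaithfulSMul.eq_of_smul_eq_smul fun x : U => ?_
  rw [one_smul, ← mem_fixPts, e]
  exact AddSubgroup.mem_top x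

/-- An invariant subgroup without fixed vectors has size one modulo the prime. -/
theorem card_modEq_one [Finite U] {q : ℕ} [Fact q.Prime] (M : Subgroup B) (hM : IsPGroup q M)
    (hfree : ∀ x : U, (∀ a ∈ M, a • x = x) → x = 0) (W : AddSubgroup U)
    (hW : ∀ a ∈ M, ∀ w ∈ W, a • w ∈ W) : Nat.card W ≡ 1 [MOD q] := by
  letI : MulAction M W :=
    { smul := fun a w => ⟨(a : B) • (w : U), hW a a.2 w w.2⟩
      one_smul := fun w => Subtype.ext (one_smul B (w : U))
      mul_smul := fun a a' w => Subtype.ext (mul_smul (a : B) a' (w : U)) }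
  refine (hM.card_modEq_card_fixedPoints W).trans ?_
  have h1 : MulAction.fixedPoints M W = {(0 : W)} := by
    ext w
    refine ⟨fun h => Subtype.ext (hfree _ fun a ha => congrArg Subtype.val (h ⟨a, ha⟩)), ?_⟩
    rintro rfl a
    exact Subtype.ext (smul_zero (a : B))
  rw [h1]
  simp
  rfl

/-- Subgroups with at least half of the vectors meet in at least a quarter. -/
theorem card_inf_ge [Finite U] (H K : AddSubgroup U) (hH : Nat.card U ≤ 2 * Nat.card H)
    (hK : Nat.card U ≤ 2 * Nat.card K) : Nat.card U ≤ 4 * Nat.card (H ⊓ K : AddSubgroup U) := by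
  have hle : ∀ L : AddSubgroup U, Nat.card U ≤ 2 * Nat.card L → L.index ≤ 2 := fun L hL => by
    rw [← L.card_mul_index, mul_comm 2] at hL
    exact Nat.le_of_mul_le_mul_left hL Nat.card_pos
  have h1 : (H ⊓ K).index ≤ 4 := AddSubgroup.index_inf_le.trans (Nat.mul_le_mul (hle H hH) (hle K hK))
  rw [← (H ⊓ K).card_mul_index, mul_comm 4]
  exact Nat.mul_le_mul_left _ h1

/-- In a solvable group some normal subgroup is elementary abelian. -/
theorem exists_elementary [Finite B] [Nontrivial B] (hs : Group.IsSolvable B) :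
    ∃ (q : ℕ) (M : Subgroup B), q.Prime ∧ M.Normal ∧ M ≠ ⊥ ∧ (∀ x ∈ M, ∀ y ∈ M, x * y = y * x) ∧
      ∀ x ∈ M, x ^ q = 1 := by
  haveI := hs
  obtain ⟨M, ⟨hM, hMb⟩, hmin⟩ := (Set.toFinite {M : Subgroup B | M.Normal ∧ M ≠ ⊥}).exists_minimal
    ⟨⊤, inferInstance, top_ne_bot⟩
  haveI := hM
  have hcomm := OddPair.commutative_of_minimal M hMb fun N hN hNM => or_iff_not_imp_left.mpr fun hNb =>
    le_antisymm hNM (hmin ⟨hN, hNb⟩ hNM)
  obtain ⟨q, hq, hdvd⟩ := Nat.exists_prime_and_dvd (n := Nat.card M) (fun h => hMb (Subgroup.eq_bot_of_card_eq M h))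
  haveI := Fact.mk hq
  let Q : Subgroup B :=
    { carrier := {x | x ∈ M ∧ x ^ q = 1}
      one_mem' := ⟨one_mem M, one_pow q⟩
      mul_mem' := fun {x y} hx hy => ⟨mul_mem hx.1 hy.1, by
        rw [(show Commute x y from hcomm x hx.1 y hy.1).mul_pow, hx.2, hy.2, one_mul]⟩
      inv_mem' := fun {x} hx => ⟨inv_mem hx.1, by rw [inv_pow, hx.2, inv_one]⟩ }
  have hQn : Q.Normal := ⟨fun x hx g => ⟨hM.conj_mem x hx.1 g, by rw [conj_pow, hx.2, mul_one, mul_inv_cancel]⟩⟩
  have hQb : Q ≠ ⊥ := by
    obtain ⟨z, hz⟩ := exists_prime_orderOf_dvd_card' q hdvd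
    intro e
    have h1 : (z : B) ∈ Q := ⟨z.2, by rw [← SubgroupClass.coe_pow, ← hz, pow_orderOf_eq_one]; rfl⟩
    rw [e, Subgroup.mem_bot] at h1
    rw [show z = 1 from Subtype.ext h1, orderOf_one] at hz
    exact hq.one_lt.ne hz
  exact ⟨q, M, hq, hM, hMb, hcomm, fun x hx => ((hmin ⟨hQn, hQb⟩ fun y hy => hy.1) hx).2⟩

theorem small_cases {m q : ℕ} (hq : q.Prime) (h3 : q ≠ 3) (h2 : 2 ≤ m) (h7 : m ≤ 7) (hd : q ∣ 2 ^ m - 1) :
    (m = 3 ∧ q = 7) ∨ (m = 4 ∧ q = 5) ∨ (m = 5 ∧ q = 31) ∨ (m = 6 ∧ q = 7) ∨ (m = 7 ∧ q = 127) := by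
  have heq : ∀ {k : ℕ}, k.Prime → q ∣ k → q = k := fun hk h => (Nat.prime_dvd_prime_iff_eq hq hk).mp h
  interval_cases m <;> norm_num at hd ⊢
  · exact h3 (heq (by norm_num) hd)
  · exact heq (by norm_num) hd
  · exact ((Nat.Prime.dvd_mul hq).mp (show q ∣ 3 * 5 from hd)).elim
      (fun h => absurd (heq (by norm_num) h) h3) (heq (by norm_num))
  · exact heq (by norm_num) hd
  · rcases (Nat.Prime.dvd_mul hq).mp (show q ∣ 9 * 7 from hd) with h | h
    · exact absurd (heq (by norm_num) (hq.dvd_of_dvd_pow (show q ∣ 3 ^ 2 from h))) h3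
    · exact heq (by norm_num) h
  · exact heq (by norm_num) hd

theorem sq_le_two_pow : ∀ m : ℕ, 8 ≤ m → m * m ≤ 2 ^ (m - 2) := by
  intro m hm
  induction m, hm using Nat.le_induction with
  | base => norm_num
  | succ m hm ih =>
    have h1 : 2 ^ (m + 1 - 2) = 2 * 2 ^ (m - 2) := by
      rw [show m + 1 - 2 = m - 2 + 1 by omega, pow_succ, mul_comm]
    rw [h1]
    nlinarith

section

variable [Finite B] [Finite U] [FaithfulSMul B U]

/-- A colouring of the non-zero vectors with trivial stabiliser gives three colours. -/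
theorem exists_colour_of_bound (f s : ℕ) (hf : ∀ b : B, b ≠ 1 → Nat.card (fixPts b : AddSubgroup U) ≤ f + 1)
    (hU : 2 * s + f + 1 ≤ Nat.card U) (hB : Nat.card B < 2 ^ s) :
    ∃ c : U → Fin 3, (∀ x, c x = c 0 → x = 0) ∧ ∀ b : B, (∀ x, c (b • x) = c x) → b = 1 := by
  classical
  letI : MulAction B {x : U // x ≠ 0} :=
    { smul := fun b x => ⟨b • (x : U), fun h => x.2 (by rwa [smul_eq_zero_iff_eq] at h)⟩
      one_smul := fun x => Subtype.ext (one_smul B (x : U))
      mul_smul := fun a b x => Subtype.ext (mul_smul a b (x : U)) }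
  have hT : Nat.card {x : U // x ≠ 0} + 1 = Nat.card U := by
    haveI := Fintype.ofFinite U
    have hpos : 0 < Fintype.card U := Fintype.card_pos
    rw [Nat.card_eq_fintype_card, Nat.card_eq_fintype_card, Fintype.card_subtype_compl, Fintype.card_subtype_eq]
    omega
  obtain ⟨S, hS⟩ := exists_rigid_set (B := B) (T := {x : U // x ≠ 0}) f (fun b hb => by
      let g : {t : {x : U // x ≠ 0} // b • t = t} → {x : (fixPts b : AddSubgroup U) // x ≠ 0} :=
        fun t => ⟨⟨(t.1 : U), congrArg Subtype.val t.2⟩, fun h => t.1.2 (congrArg Subtype.val h)⟩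
      have hg : Function.Injective g := by
        intro t t' h
        simp only [g, Subtype.mk.injEq] at h
        have h' := congrArg Subtype.val h
        exact Subtype.ext (Subtype.ext h')
      have h1 := Nat.card_le_card_of_injective g hg
      have h2 := Finite.card_subtype_lt (p := fun x : (fixPts b : AddSubgroup U) => x ≠ 0) (x := 0) (by simp)
      have h3 := hf b hb
      omega) (by
      set T := Nat.card {x : U // x ≠ 0}
      calc Nat.card B * 2 ^ ((T + f) / 2) < 2 ^ s * 2 ^ ((T + f) / 2) :=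
            Nat.mul_lt_mul_of_pos_right hB (by positivity)
        _ = 2 ^ (s + (T + f) / 2) := (pow_add _ _ _).symm
        _ ≤ 2 ^ T := Nat.pow_le_pow_right (by norm_num) (by omega))
  let c : U → Fin 3 := fun x => if h : x = 0 then 0 else if (⟨x, h⟩ : {x : U // x ≠ 0}) ∈ S then 1 else 2
  refine ⟨c, fun x h => ?_, fun b hb => hS b fun t => ?_⟩
  · by_contra hx
    simp only [c, dif_neg hx, dite_true] at h
    split_ifs at h <;> simp [Fin.ext_iff] at h
  · have h := hb (t : U)
    have hbt : b • (t : U) ≠ 0 := (b • t).2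
    simp only [c, dif_neg t.2, dif_neg hbt] at h
    have e : (⟨b • (t : U), hbt⟩ : {x : U // x ≠ 0}) = b • t := rfl
    rw [e, Subtype.coe_eta] at h
    by_cases h1 : t ∈ S <;> by_cases h2 : b • t ∈ S <;> simp_all

variable {m : ℕ}

theorem card_lt_pow [Module (ZMod 2) U] (hm : Module.finrank (ZMod 2) U = m) (hU : Nat.card U = 2 ^ m)
    (hm1 : 1 ≤ m) : Nat.card B < 2 ^ (m * m) := by
  haveI : Module.Finite (ZMod 2) U := Module.Finite.of_finite
  let e := Module.finBasis (ZMod 2) U
  let g : B → (Fin (Module.finrank (ZMod 2) U) → U) := fun b i => b • e i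
  have hg : Function.Injective g := by
    intro a b h
    refine FaithfulSMul.eq_of_smul_eq_smul fun x : U => ?_
    have h1 : (DistribSMul.toAddMonoidHom U a).toZModLinearMap 2 = (DistribSMul.toAddMonoidHom U b).toZModLinearMap 2 :=
      e.ext fun i => congrFun h i
    exact LinearMap.congr_fun h1 x
  have h2 := Nat.card_le_card_of_injective (fun b => (⟨g b, fun h0 => by
      have h3 := congrFun h0 ⟨0, by omega⟩
      exact e.ne_zero _ ((smul_eq_zero_iff_eq b).mp h3)⟩ : {φ : Fin (Module.finrank (ZMod 2) U) → U // φ ≠ 0}))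
    fun a b h => hg (congrArg Subtype.val h)
  refine lt_of_le_of_lt h2 (lt_of_lt_of_le (Finite.card_subtype_lt (x := 0) (by simp)) ?_)
  rw [Nat.card_pi, Finset.prod_const, Finset.card_univ, Fintype.card_fin, hm, hU, ← pow_mul]

/-- The facts for small dimensions: few fixed vectors and a small group. -/
theorem small_bounds (hs : Group.IsSolvable B) (h3 : (Nat.card B).Coprime 3) (hirr : OddPair.IsIrr B U)
    [Nontrivial B] (hU : Nat.card U = 2 ^ m) (hsub : ∀ W : AddSubgroup U, ∃ k, k ≤ m ∧ Nat.card W = 2 ^ k)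
    (hexp : ∀ x : U, x + x = 0) (hm2 : 2 ≤ m) (hm7 : m ≤ 7) :
    (∀ b : B, b ≠ 1 → Nat.card (fixPts b : AddSubgroup U) ≤ 2 ^ (m - 2)) ∧ 3 ≤ m ∧
      Nat.card B < 2 ^ (3 * 2 ^ (m - 3)) := by
  classical
  obtain ⟨q, M, hq, hMn, hMb, hcomm, hMq⟩ := exists_elementary hs
  haveI := Fact.mk hq
  haveI := hMn
  have hMP : IsPGroup q M := fun x => ⟨1, Subtype.ext (by rw [pow_one]; exact hMq x x.2)⟩
  obtain ⟨a₀, ha₀M, ha₀⟩ : ∃ a ∈ M, a ≠ (1 : B) := by
    by_contra hno
    push Not at hno
    exact hMb ((Subgroup.eq_bot_iff_forall M).mpr hno)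
  have hord : ∀ x ∈ M, x ≠ 1 → orderOf x = q := fun x hx hx1 => orderOf_eq_prime (hMq x hx) hx1
  have hfree : ∀ x : U, (∀ a ∈ M, a • x = x) → x = 0 := by
    let F : AddSubgroup U :=
      { carrier := {x | ∀ a ∈ M, a • x = x}
        zero_mem' := fun a _ => smul_zero a
        add_mem' := fun {x y} hx hy a ha => by rw [smul_add, hx a ha, hy a ha]
        neg_mem' := fun {x} hx a ha => by rw [smul_neg, hx a ha] }
    rcases hirr F (fun g x hx a ha => by
      have h1 := hx _ (hMn.conj_mem a ha g⁻¹)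
      rw [inv_inv, mul_smul, mul_smul, inv_smul_eq_iff] at h1
      exact h1) with h | h
    · intro x hx
      have : x ∈ F := hx
      rwa [h, AddSubgroup.mem_bot] at this
    · exact absurd (FaithfulSMul.eq_of_smul_eq_smul fun x : U => by
        rw [one_smul]
        exact (show x ∈ F by rw [h]; exact AddSubgroup.mem_top x) a₀ ha₀M) ha₀
  have hmod := fun W hW => card_modEq_one M hMP hfree W hW
  have hd : q ∣ 2 ^ m - 1 := by
    have h1 := hmod ⊤ (fun _ _ _ _ => AddSubgroup.mem_top _)
    rw [AddSubgroup.card_top, hU] at h1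
    exact (Nat.modEq_iff_dvd' (Nat.one_le_two_pow)).mp h1.symm
  have hq3 : q ≠ 3 := fun e => by
    have h1 : orderOf a₀ ∣ Nat.card B := orderOf_dvd_natCard a₀
    rw [hord a₀ ha₀M ha₀, e] at h1
    exact (Nat.Prime.coprime_iff_not_dvd Nat.prime_three).mp h3.symm h1
  have hcases := small_cases hq hq3 hm2 hm7 hd
  have hm3 : 3 ≤ m := by omega
  set L := if m = 6 then 8 else 1 with hL
  have htri : ∀ W : AddSubgroup U, (∀ a ∈ M, ∀ w ∈ W, a • w ∈ W) →
      Nat.card W = 1 ∨ Nat.card W = L ∨ Nat.card W = 2 ^ m := by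
    intro W hW
    obtain ⟨k, hk, hkW⟩ := hsub W
    have h1 : 2 ^ k % q = 1 % q := by rw [← hkW]; exact hmod W hW
    rw [hkW, hL]
    rcases hcases with ⟨rfl, rfl⟩ | ⟨rfl, rfl⟩ | ⟨rfl, rfl⟩ | ⟨rfl, rfl⟩ | ⟨rfl, rfl⟩ <;>
      interval_cases k <;> first | (norm_num at h1; done) | norm_num
  have hLlt : L < 2 ^ (m - 2) := by
    rw [hL]
    rcases hcases with ⟨rfl, rfl⟩ | ⟨rfl, rfl⟩ | ⟨rfl, rfl⟩ | ⟨rfl, rfl⟩ | ⟨rfl, rfl⟩ <;> norm_num
  have hpow : 2 ^ m = 4 * 2 ^ (m - 2) ∧ 2 ^ (m - 1) = 2 * 2 ^ (m - 2) := by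
    constructor
    · rw [show (4 : ℕ) = 2 ^ 2 by norm_num, ← pow_add]
      congr 1
      omega
    · rw [← pow_succ']
      congr 1
      omega
  have hone : 1 < 2 ^ (m - 2) := Nat.one_lt_two_pow (by omega)
  have hinv : ∀ g : B, (∀ x ∈ M, g * x = x * g) → ∀ x ∈ M, ∀ w ∈ (fixPts g : AddSubgroup U), x • w ∈ (fixPts g : AddSubgroup U) := by
    intro g hg x hx w hw
    rw [mem_fixPts, ← mul_smul, hg x hx, mul_smul, mem_fixPts.mp hw]
  have hbig : ∀ g : B, 2 ^ (m - 1) ≤ Nat.card (fixPts g : AddSubgroup U) → g = 1 := by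
    intro g hg
    have hcg : ∀ x ∈ M, g * x = x * g := by
      intro x hx
      have hy : g * x * g⁻¹ * x⁻¹ ∈ M := mul_mem (hMn.conj_mem x hx g) (inv_mem hx)
      have hcard : Nat.card (fixPts (x * g * x⁻¹) : AddSubgroup U) = Nat.card (fixPts g : AddSubgroup U) :=
        (Nat.card_congr ((MulAction.toPerm x).subtypeEquiv fun w => by
          show g • w = w ↔ (x * g * x⁻¹) • x • w = x • w
          rw [mul_smul, mul_smul, inv_smul_smul, smul_left_cancel_iff])).symm
      have hW := card_inf_ge (fixPts g : AddSubgroup U) (fixPts (x * g * x⁻¹)) (by omega) (by omega)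
      have hsubW : (fixPts g ⊓ fixPts (x * g * x⁻¹) : AddSubgroup U) ≤ fixPts (g * x * g⁻¹ * x⁻¹) := by
        intro w hw
        obtain ⟨hw1, hw2⟩ := AddSubgroup.mem_inf.mp hw
        rw [mem_fixPts] at hw1 hw2 ⊢
        rw [mul_smul, mul_smul, smul_eq_iff_eq_inv_smul] at hw2
        rw [mul_smul, mul_smul, mul_smul, show g⁻¹ • x⁻¹ • w = x⁻¹ • w from by
          rw [inv_smul_eq_iff]; exact hw2.symm, smul_inv_smul, hw1]
      have hle := Nat.card_le_card_of_injective _ (AddSubgroup.inclusion_injective hsubW)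
      have hy1 : g * x * g⁻¹ * x⁻¹ = 1 := by
        rcases htri _ (hinv _ fun z hz => hcomm _ hy z hz) with h | h | h
        · omega
        · omega
        · exact eq_one_of_card (h.trans hU.symm)
      calc g * x = g * x * g⁻¹ * x⁻¹ * (x * g) := by group
        _ = x * g := by rw [hy1, one_mul]
    rcases htri _ (hinv g hcg) with h | h | h
    · omega
    · omega
    · exact eq_one_of_card (h.trans hU.symm)
  have hfix : ∀ b : B, b ≠ 1 → Nat.card (fixPts b : AddSubgroup U) ≤ 2 ^ (m - 2) := by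
    intro b hb
    obtain ⟨k, hk, hkW⟩ := hsub (fixPts b)
    rw [hkW]
    refine Nat.pow_le_pow_right (by norm_num) ?_
    by_contra hgt
    exact hb (hbig b (hkW ▸ Nat.pow_le_pow_right (by norm_num) (by omega)))
  refine ⟨hfix, hm3, ?_⟩
  haveI : Nontrivial U := Finite.one_lt_card_iff_nontrivial.mp (hU ▸ Nat.one_lt_two_pow (by omega))
  obtain ⟨u0, hu0⟩ := exists_ne (0 : U)
  set C := Subgroup.centralizer (M : Set B) with hC
  have hCc : ∀ d ∈ C, ∀ x ∈ M, d * x = x * d := fun d hd' x hx => (Subgroup.mem_centralizer_iff.mp hd' x hx).symm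
  have hT : Nat.card {x : U // x ≠ 0} < 2 ^ m := hU ▸ Finite.card_subtype_lt (x := 0) (by simp)
  have hMcard : ∃ k, Nat.card M = q ^ k ∧ 1 ≤ k := by
    obtain ⟨k, hk⟩ := IsPGroup.iff_card.mp hMP
    refine ⟨k, hk, Nat.one_le_iff_ne_zero.mpr fun e => hMb (Subgroup.eq_bot_of_card_eq M ?_)⟩
    rw [hk, e, pow_zero]
  obtain ⟨k, hMk, hk1⟩ := hMcard
  have hidx : ∀ z : Set B, z ⊆ M → (∀ d, (∀ x ∈ z, d * x = x * d) → d ∈ C) →
      ∀ n : ℕ, Nat.card (z → {x : M // x ≠ 1}) ≤ n → (∀ x ∈ z, x ≠ (1 : B)) → Nat.card B ≤ n * Nat.card C := by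
    intro z hz hzC n hn hz1
    rw [← C.index_mul_card]
    refine Nat.mul_le_mul_right _ (le_trans (Nat.card_le_card_of_injective
      (fun (g : B ⧸ C) (x : z) => (⟨⟨g.out * x * g.out⁻¹, hMn.conj_mem x (hz x.2) g.out⟩, fun e => hz1 x x.2 (by
        have e' : g.out * (x : B) * g.out⁻¹ = 1 := congrArg Subtype.val e
        rwa [conj_eq_one_iff] at e')⟩ : {x : M // x ≠ 1})) ?_) hn)
    intro g g' h
    have h1 : g'.out⁻¹ * g.out ∈ C := hzC _ fun x hx => by
      have h2 : g.out * x * g.out⁻¹ = g'.out * x * g'.out⁻¹ :=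
        congrArg (fun y : {x : M // x ≠ 1} => ((y : M) : B)) (congrFun h ⟨x, hx⟩)
      calc g'.out⁻¹ * g.out * x = g'.out⁻¹ * (g.out * x * g.out⁻¹) * g.out := by group
        _ = x * (g'.out⁻¹ * g.out) := by rw [h2]; group
    rw [← g.out_eq', ← g'.out_eq', QuotientGroup.eq]
    simpa using C.inv_mem h1
  by_cases h6 : m = 6
  · -- dimension six
    obtain rfl : q = 7 := by omega
    subst h6
    rw [if_pos rfl] at hL
    have hinvS : ∀ S : Set B, (∀ d ∈ S, ∀ x ∈ M, d * x = x * d) →
        ∀ x ∈ M, ∀ w ∈ (⨅ d ∈ S, fixPts d : AddSubgroup U), x • w ∈ (⨅ d ∈ S, fixPts d : AddSubgroup U) := by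
      intro S hS x hx w hw
      simp only [AddSubgroup.mem_iInf] at hw ⊢
      exact fun d hd' => hinv d (hS d hd') x hx w (hw d hd')
    have hCbound : Nat.card C ≤ 63 * 64 := by
      set W0 : AddSubgroup U := ⨅ d ∈ {d : B | d ∈ C ∧ d • u0 = u0}, fixPts d with hW0
      obtain ⟨u1, hu1⟩ : ∃ u1 : U, W0 ≠ ⊤ → u1 ∉ W0 := by
        by_cases h : W0 = ⊤
        · exact ⟨0, fun h' => absurd h h'⟩
        · obtain ⟨u, hu⟩ := not_forall.mp (mt (AddSubgroup.eq_top_iff' W0).mpr h)
          exact ⟨u, fun _ => hu⟩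
      have hu0W : u0 ∈ W0 := by
        simp only [hW0, AddSubgroup.mem_iInf]
        exact fun d hd' => hd'.2
      have h63 : Nat.card {x : U // x ≠ 0} ≤ 63 := by omega
      refine le_trans (Nat.card_le_card_of_injective
        (fun d : C => ((⟨(d : B) • u0, fun h => hu0 (by rwa [smul_eq_zero_iff_eq] at h)⟩ : {x : U // x ≠ 0}),
          (d : B) • u1)) ?_) (by rw [Nat.card_prod, hU]; exact Nat.mul_le_mul_right _ h63)
      intro d d' h
      simp only [Prod.mk.injEq, Subtype.mk.injEq] at h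
      have e0 : ((d' : B)⁻¹ * d) • u0 = u0 := by rw [mul_smul, h.1, inv_smul_smul]
      have e1 : ((d' : B)⁻¹ * d) • u1 = u1 := by rw [mul_smul, h.2, inv_smul_smul]
      have hc : (d' : B)⁻¹ * d ∈ C := mul_mem (inv_mem d'.2) d.2
      refine Subtype.ext (inv_mul_eq_one.mp (eq_one_of_card (U := U) ?_)).symm
      have hle : W0 ≤ fixPts ((d' : B)⁻¹ * d) := iInf₂_le _ ⟨hc, e0⟩
      have hW := hinvS {d : B | d ∈ C ∧ d • u0 = u0} fun d hd' => hCc d hd'.1
      have hW1 : 1 < Nat.card W0 := Finite.one_lt_card_iff_nontrivial.mpr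
        ⟨⟨⟨u0, hu0W⟩, 0, fun e => hu0 (congrArg Subtype.val e)⟩⟩
      have hle' := Nat.card_le_card_of_injective _ (AddSubgroup.inclusion_injective hle)
      rcases htri _ (hinv _ (hCc _ hc)) with h1 | h1 | h1
      · omega
      · exfalso
        rcases htri _ hW with h2 | h2 | h2
        · exact hW1.ne' h2
        · have heq := AddSubgroup.eq_of_le_of_card_ge hle (by rw [h1, h2])
          refine hu1 (fun htop => ?_) (heq ▸ e1)
          have h2' : Nat.card W0 = L := h2
          rw [htop, AddSubgroup.card_top, hU, hL] at h2'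
          norm_num at h2'
        · have h2' : Nat.card W0 = 2 ^ 6 := h2
          omega
      · exact h1.trans hU.symm
    have hk2 : k ≤ 2 := by
      have hMle : Nat.card M ≤ 63 := by
        by_cases hsemi : ∀ a ∈ M, a • u0 = u0 → a = 1
        · refine le_trans (Nat.card_le_card_of_injective (fun a : M =>
            (⟨(a : B) • u0, fun h => hu0 (by rwa [smul_eq_zero_iff_eq] at h)⟩ : {x : U // x ≠ 0})) ?_) (by omega)
          intro a a' h
          simp only [Subtype.mk.injEq] at h
          exact Subtype.ext (inv_mul_eq_one.mp (hsemi _ (mul_mem (inv_mem a'.2) a.2)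
            (by rw [mul_smul, h, inv_smul_smul]))).symm
        · push Not at hsemi
          obtain ⟨a1, ha1, ha1u, ha11⟩ := hsemi
          have hWinv := hinv a1 fun z hz => hcomm a1 ha1 z hz
          have hW8 : Nat.card (fixPts a1 : AddSubgroup U) = 8 := by
            rcases htri (fixPts a1 : AddSubgroup U) hWinv with h | h | h
            · exact absurd (congrArg Subtype.val ((Nat.card_eq_one_iff_unique.mp h).1.elim
                (⟨u0, ha1u⟩ : (fixPts a1 : AddSubgroup U)) 0)) hu0
            · exact h.trans hL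
            · exact absurd (eq_one_of_card (h.trans hU.symm)) ha11
          obtain ⟨u1, hu1⟩ : ∃ u1 : U, u1 ∉ (fixPts a1 : AddSubgroup U) := by
            by_contra h
            push Not at h
            rw [(AddSubgroup.eq_top_iff' (fixPts a1 : AddSubgroup U)).mpr h, AddSubgroup.card_top, hU] at hW8
            norm_num at hW8
          have hQ : Nat.card (U ⧸ (fixPts a1 : AddSubgroup U)) = 8 := by
            have h := (fixPts a1 : AddSubgroup U).card_eq_card_quotient_mul_card_addSubgroup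
            rw [hU, hW8] at h
            omega
          let Φ : M → {x : (fixPts a1 : AddSubgroup U) // x ≠ 0} × {x : U ⧸ (fixPts a1 : AddSubgroup U) // x ≠ 0} := fun a =>
            (⟨⟨(a : B) • u0, hWinv a a.2 u0 ha1u⟩, fun h => hu0 (by
                have h' : (a : B) • u0 = 0 := congrArg Subtype.val h
                rwa [smul_eq_zero_iff_eq] at h')⟩,
             ⟨QuotientAddGroup.mk ((a : B) • u1), fun h => hu1 (by
                rw [QuotientAddGroup.eq_zero_iff] at h
                have h' := hWinv _ (inv_mem a.2) _ h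
                rwa [inv_smul_smul] at h')⟩)
          have hΦ : Function.Injective Φ := by
            intro a a' h
            simp only [Φ, Prod.mk.injEq, Subtype.mk.injEq, QuotientAddGroup.eq] at h
            set y : B := (a' : B)⁻¹ * a with hy
            have hyM : y ∈ M := mul_mem (inv_mem a'.2) a.2
            have hy0 : y • u0 = u0 := by rw [hy, mul_smul, h.1, inv_smul_smul]
            have hδ : y • u1 - u1 ∈ (fixPts a1 : AddSubgroup U) := by
              rw [show y • u1 - u1 = (a' : B)⁻¹ • -(-((a : B) • u1) + (a' : B) • u1) by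
                rw [hy, mul_smul, smul_neg, smul_add, smul_neg, inv_smul_smul]; abel]
              exact hWinv _ (inv_mem a'.2) _ ((fixPts a1 : AddSubgroup U).neg_mem h.2)
            refine Subtype.ext (inv_mul_eq_one.mp ?_).symm
            show y = 1
            by_contra hy1
            have hWy : (fixPts a1 : AddSubgroup U) = fixPts y := by
              have hinv' : ∀ x ∈ M, ∀ w ∈ (fixPts a1 ⊓ fixPts y : AddSubgroup U), x • w ∈ (fixPts a1 ⊓ fixPts y : AddSubgroup U) := fun x hx w hw =>
                ⟨hWinv x hx w hw.1, hinv y (fun z hz => hcomm y hyM z hz) x hx w hw.2⟩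
              have h8 : Nat.card (fixPts a1 ⊓ fixPts y : AddSubgroup U) = 8 := by
                rcases htri (fixPts a1 ⊓ fixPts y : AddSubgroup U) hinv' with h' | h' | h'
                · exact absurd (congrArg Subtype.val ((Nat.card_eq_one_iff_unique.mp h').1.elim
                    (⟨u0, ha1u, hy0⟩ : (fixPts a1 ⊓ fixPts y : AddSubgroup U)) 0)) hu0
                · exact h'.trans hL
                · have := Nat.card_le_card_of_injective _ (AddSubgroup.inclusion_injective (inf_le_left : (fixPts a1 ⊓ fixPts y : AddSubgroup U) ≤ (fixPts a1 : AddSubgroup U)))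
                  omega
              rcases htri _ (hinv y fun z hz => hcomm y hyM z hz) with h' | h' | h'
              · exact absurd (congrArg Subtype.val ((Nat.card_eq_one_iff_unique.mp h').1.elim
                  (⟨u0, hy0⟩ : (fixPts y : AddSubgroup U)) 0)) hu0
              · exact (AddSubgroup.eq_of_le_of_card_ge (inf_le_left : (fixPts a1 ⊓ fixPts y : AddSubgroup U) ≤ (fixPts a1 : AddSubgroup U)) (by omega)).symm.trans
                  (AddSubgroup.eq_of_le_of_card_ge (inf_le_right : (fixPts a1 ⊓ fixPts y : AddSubgroup U) ≤ fixPts y) (by omega))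
              · exact absurd (eq_one_of_card (h'.trans hU.symm)) hy1
            have hfixδ : y • (y • u1 - u1) = y • u1 - u1 := mem_fixPts.mp (hWy ▸ hδ)
            have hy2 : (y * y) • u1 = u1 := by
              rw [smul_sub, sub_eq_iff_eq_add] at hfixδ
              rw [mul_smul, hfixδ, sub_add_eq_add_sub, hexp, zero_sub, neg_eq_iff_add_eq_zero, hexp]
            have hyy : y ∈ Subgroup.zpowers (y * y) := by
              rw [← pow_two]
              refine ⟨4, ?_⟩
              show (y ^ 2) ^ (4 : ℤ) = y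
              rw [show ((4 : ℤ)) = ((4 : ℕ) : ℤ) from rfl, zpow_natCast, ← pow_mul,
                show 2 * 4 = 7 + 1 from rfl, pow_succ, hMq y hyM, one_mul]
            have hy1' : y • u1 = u1 :=
              (Subgroup.zpowers_le.mpr (show y * y ∈ MulAction.stabilizer B u1 from hy2)) hyy
            exact hu1 (hWy ▸ mem_fixPts.mpr hy1')
          refine le_trans (Nat.card_le_card_of_injective Φ hΦ) ?_
          rw [Nat.card_prod]
          have e1 : Nat.card {x : (fixPts a1 : AddSubgroup U) // x ≠ 0} < 8 := hW8 ▸ Finite.card_subtype_lt (x := 0) (by simp)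
          have e2 : Nat.card {x : U ⧸ (fixPts a1 : AddSubgroup U) // x ≠ 0} < 8 := hQ ▸ Finite.card_subtype_lt (x := 0) (by simp)
          exact le_trans (Nat.mul_le_mul (Nat.le_of_lt_succ e1) (Nat.le_of_lt_succ e2)) (by norm_num)
      rw [hMk] at hMle
      by_contra hgt
      have := Nat.pow_le_pow_right (show 0 < 7 by norm_num) (show 3 ≤ k by omega)
      omega
    have hM49 : Nat.card M ≤ 49 := hMk ▸ (Nat.pow_le_pow_right (by norm_num) hk2).trans_eq (by norm_num)
    obtain ⟨c, hcM, hc1, hcgen⟩ : ∃ c ∈ M, c ≠ (1 : B) ∧ ∀ d, d * a₀ = a₀ * d → d * c = c * d → d ∈ C := by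
      set Z := Subgroup.zpowers a₀
      have hZM : Z ≤ M := Subgroup.zpowers_le.mpr ha₀M
      by_cases hall : M ≤ Z
      · refine ⟨a₀, ha₀M, ha₀, fun d hd' _ => Subgroup.mem_centralizer_iff.mpr fun x hx => ?_⟩
        obtain ⟨i, rfl⟩ := hall hx
        exact ((show Commute d a₀ from hd').zpow_right i).eq.symm
      · obtain ⟨c, hcM, hcZ⟩ := SetLike.not_le_iff_exists.mp hall
        refine ⟨c, hcM, fun e => hcZ (e ▸ one_mem Z), fun d hd1 hd2 => Subgroup.mem_centralizer_iff.mpr fun x hx => ?_⟩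
        set H := Subgroup.centralizer ({d} : Set B) ⊓ M with hH
        have hZH : Z ≤ H := Subgroup.zpowers_le.mpr ⟨Subgroup.mem_centralizer_singleton_iff.mpr hd1.symm, ha₀M⟩
        have hcH : c ∈ H := ⟨Subgroup.mem_centralizer_singleton_iff.mpr hd2.symm, hcM⟩
        obtain ⟨i, hi, hHi⟩ := (Nat.dvd_prime_pow hq).mp (hMk ▸ Subgroup.card_dvd_of_le (inf_le_right : H ≤ M))
        have hlt : Nat.card Z < Nat.card H := by
          refine lt_of_le_of_ne (Nat.le_of_dvd Nat.card_pos (Subgroup.card_dvd_of_le hZH)) fun e => hcZ ?_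
          rw [Subgroup.eq_of_le_of_card_ge hZH e.ge]
          exact hcH
        rw [Nat.card_zpowers, hord a₀ ha₀M ha₀, hHi] at hlt
        have hi2 : 2 ≤ i := by
          rcases i with _ | _ | i <;> simp at hlt ⊢
        have hxH : x ∈ H :=
          (Subgroup.eq_of_le_of_card_ge (inf_le_right : H ≤ M) (by rw [hHi, hMk, show i = k by omega])).ge hx
        exact Subgroup.mem_centralizer_singleton_iff.mp hxH.1
    have hB := hidx {a₀, c} (Set.insert_subset_iff.mpr ⟨ha₀M, Set.singleton_subset_iff.mpr hcM⟩)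
      (fun d hd' => hcgen d (hd' a₀ (by simp)) (hd' c (by simp))) (49 * 49) (by
        haveI := Fintype.ofFinite ({a₀, c} : Set B)
        rw [Nat.card_fun, Nat.card_coe_set_eq]
        have h1 : Nat.card {x : M // x ≠ 1} ≤ 49 := (Finite.card_subtype_le _).trans hM49
        have h2 : ({a₀, c} : Set B).ncard ≤ 2 := (Set.ncard_insert_le _ _).trans (by simp)
        exact le_trans (Nat.pow_le_pow_left h1 _) ((Nat.pow_le_pow_right (by norm_num) h2).trans_eq (by norm_num)))
      (by rintro x (rfl | rfl) <;> assumption)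
    exact lt_of_le_of_lt (hB.trans (Nat.mul_le_mul_left _ hCbound)) (by norm_num)
  · -- no element fixes a non-zero vector
    rw [if_neg h6] at hL
    have hsemi : ∀ d ∈ C, d • u0 = u0 → d = 1 := by
      intro d hd' hdu
      rcases htri _ (hinv d (hCc d hd')) with h | h | h
      · exact absurd (congrArg Subtype.val ((Nat.card_eq_one_iff_unique.mp h).1.elim
          (⟨u0, hdu⟩ : (fixPts d : AddSubgroup U)) 0)) hu0
      · rw [hL] at h
        exact absurd (congrArg Subtype.val ((Nat.card_eq_one_iff_unique.mp h).1.elim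
          (⟨u0, hdu⟩ : (fixPts d : AddSubgroup U)) 0)) hu0
      · exact eq_one_of_card (h.trans hU.symm)
    have hCT : Nat.card C < 2 ^ m := lt_of_le_of_lt (Nat.card_le_card_of_injective (fun d : C =>
        (⟨(d : B) • u0, fun h => hu0 (by rwa [smul_eq_zero_iff_eq] at h)⟩ : {x : U // x ≠ 0})) (fun d d' h => by
      simp only [Subtype.mk.injEq] at h
      exact Subtype.ext (inv_mul_eq_one.mp (hsemi _ (mul_mem (inv_mem d'.2) d.2)
        (by rw [mul_smul, h, inv_smul_smul]))).symm)) hT
    have hMC : M ≤ C := fun x hx => Subgroup.mem_centralizer_iff.mpr fun y hy => hcomm y hy x hx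
    have hMq1 : k = 1 := by
      have h1 := Nat.le_of_dvd Nat.card_pos (Subgroup.card_dvd_of_le hMC)
      rw [hMk] at h1
      by_contra hk2
      have h2 := Nat.pow_le_pow_right hq.pos (show 2 ≤ k by omega)
      rcases hcases with ⟨rfl, rfl⟩ | ⟨rfl, rfl⟩ | ⟨rfl, rfl⟩ | ⟨rfl, rfl⟩ | ⟨rfl, rfl⟩ <;> omega
    rw [hMq1, pow_one] at hMk
    have hgen : ∀ x ∈ M, x ∈ Subgroup.zpowers a₀ := fun x hx => by
      rw [Subgroup.eq_of_le_of_card_ge (Subgroup.zpowers_le.mpr ha₀M : Subgroup.zpowers a₀ ≤ M)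
        (by rw [Nat.card_zpowers, hord a₀ ha₀M ha₀, hMk])]
      exact hx
    have hzC : ∀ d, d * a₀ = a₀ * d → d ∈ C := fun d hd' => Subgroup.mem_centralizer_iff.mpr fun x hx => by
      obtain ⟨i, rfl⟩ := hgen x hx
      exact ((show Commute d a₀ from hd').zpow_right i).eq.symm
    have hB := hidx {a₀} (Set.singleton_subset_iff.mpr ha₀M) (fun d hd' => hzC d (hd' a₀ rfl)) (q - 1) (by
      rw [Nat.card_fun, Nat.card_coe_set_eq, Set.ncard_singleton, pow_one]
      have h1 := Finite.card_subtype_lt (p := fun x : M => x ≠ 1) (x := 1) (by simp)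
      omega) (fun x hx => by rw [Set.mem_singleton_iff.mp hx]; exact ha₀)
    have hq0 := hq.pos
    rcases hcases with ⟨rfl, rfl⟩ | ⟨rfl, rfl⟩ | ⟨rfl, rfl⟩ | ⟨rfl, rfl⟩ | ⟨rfl, rfl⟩
    · -- dimension three: the group has odd order and centralises `M`
      have hodd : ¬ 2 ∣ Nat.card B := by
        intro h2
        obtain ⟨t, ht⟩ := exists_prime_orderOf_dvd_card' 2 h2
        have ht1 : t ≠ 1 := fun e => by rw [e, orderOf_one] at ht; omega
        have htt : ∀ x : U, t • t • x = x := fun x => by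
          rw [← mul_smul, ← pow_two, ← ht, pow_orderOf_eq_one, one_smul]
        let D : U →+ U := DistribSMul.toAddMonoidHom U t + AddMonoidHom.id U
        have hker : D.ker ≤ fixPts t := fun x hx => by
          have h : t • x + x = 0 := hx
          rw [mem_fixPts]
          exact (add_eq_zero_iff_eq_neg.mp h).trans (add_eq_zero_iff_eq_neg.mp (hexp x)).symm
        have hrange : D.range ≤ fixPts t := by
          rintro _ ⟨x, rfl⟩
          show t • (t • x + x) = t • x + x
          rw [smul_add, htt, add_comm]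
        have h1 := Nat.card_le_card_of_injective _ (AddSubgroup.inclusion_injective hker)
        have h2' := Nat.card_le_card_of_injective _ (AddSubgroup.inclusion_injective hrange)
        have h4 := hfix t ht1
        have h5 : Nat.card U = Nat.card D.range * Nat.card D.ker := by
          rw [D.ker.card_eq_card_quotient_mul_card_addSubgroup,
            Nat.card_congr (QuotientAddGroup.quotientKerEquivRange D).toEquiv]
        have h6' := Nat.mul_le_mul (h2'.trans h4) (h1.trans h4)
        rw [← h5, hU] at h6'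
        norm_num at h6'
      have hall : ∀ g : B, g ∈ C := by
        intro g
        have hcop : (orderOf g).Coprime 6 := by
          have h6c : (Nat.card B).Coprime (2 * 3) :=
            Nat.Coprime.mul_right ((Nat.prime_two.coprime_iff_not_dvd.mpr hodd).symm) h3
          exact Nat.Coprime.coprime_dvd_left (orderOf_dvd_natCard g) h6c
        obtain ⟨i, hi⟩ := exists_pow_eq_self_of_coprime (x := g) hcop.symm
        rw [← hi]
        refine pow_mem (hzC _ ?_) i
        obtain ⟨j, hj⟩ := (isOfFinOrder_of_finite a₀).mem_powers_iff_mem_zpowers.mpr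
          (hgen _ (hMn.conj_mem a₀ ha₀M g))
        change a₀ ^ j = g * a₀ * g⁻¹ at hj
        have hconj : ∀ n : ℕ, g ^ n * a₀ * (g ^ n)⁻¹ = a₀ ^ (j ^ n) := by
          intro n
          induction n with
          | zero => simp
          | succ n ih =>
            rw [pow_succ' g n, mul_inv_rev, show g * g ^ n * a₀ * ((g ^ n)⁻¹ * g⁻¹) =
              g * (g ^ n * a₀ * (g ^ n)⁻¹) * g⁻¹ by group, ih, ← conj_pow, ← hj, ← pow_mul, pow_succ' j n]
        have hj0 : j % 7 ≠ 0 := fun e => ha₀ (by
          have h' : a₀ ^ j = 1 := by rw [← pow_mod_orderOf, hord a₀ ha₀M ha₀, e, pow_zero]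
          rw [h', eq_comm, conj_eq_one_iff] at hj
          exact hj)
        have hj6 : j ^ 6 % 7 = 1 := by
          rw [Nat.pow_mod]
          have hcase : j % 7 = 1 ∨ j % 7 = 2 ∨ j % 7 = 3 ∨ j % 7 = 4 ∨ j % 7 = 5 ∨ j % 7 = 6 := by omega
          rcases hcase with e | e | e | e | e | e <;> rw [e]
        have h' := hconj 6
        rw [← pow_mod_orderOf a₀ (j ^ 6), hord a₀ ha₀M ha₀, hj6, pow_one, mul_inv_eq_iff_eq_mul] at h'
        exact h'
      have hBC := Nat.card_le_card_of_injective (fun g : B => (⟨g, hall g⟩ : C)) fun g g' h => congrArg Subtype.val h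
      norm_num at hCT ⊢
      omega
    all_goals (norm_num at hB hCT ⊢; omega)

end

/-- Three colours in characteristic two. -/
theorem exists_three_colours [Finite B] [Finite U] [FaithfulSMul B U] (hexp : ∀ x : U, 2 • x = 0)
    (hs : Group.IsSolvable B) (h3 : (Nat.card B).Coprime 3) (hirr : OddPair.IsIrr B U) :
    ∃ c : U → Fin 3, (∀ x, c x = c 0 → x = 0) ∧ ∀ b : B, (∀ x, c (b • x) = c x) → b = 1 := by
  classical
  rcases subsingleton_or_nontrivial B with hB | hB
  · exact ⟨fun x => if x = 0 then 0 else 1, fun x h => by by_contra hx; simp [hx] at h, fun b _ => Subsingleton.elim _ _⟩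
  letI : Module (ZMod 2) U := AddCommGroup.zmodModule (n := 2) hexp
  haveI : Module.Finite (ZMod 2) U := Module.Finite.of_finite
  set m := Module.finrank (ZMod 2) U with hm
  have hU : Nat.card U = 2 ^ m := by rw [Module.natCard_eq_pow_finrank (K := ZMod 2), Nat.card_zmod]
  have hexp' : ∀ x : U, x + x = 0 := fun x => by rw [← two_nsmul, hexp]
  have hsub : ∀ W : AddSubgroup U, ∃ k, k ≤ m ∧ Nat.card W = 2 ^ k := fun W =>
    (Nat.dvd_prime_pow Nat.prime_two).mp (hU ▸ AddSubgroup.card_addSubgroup_dvd_card W)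
  by_cases hm1 : m ≤ 1
  · exfalso
    obtain ⟨b, hb⟩ := exists_ne (1 : B)
    refine hb (FaithfulSMul.eq_of_smul_eq_smul fun x : U => ?_)
    rw [one_smul]
    by_contra hx
    have hx0 : x ≠ 0 := fun e => hx (by rw [e, smul_zero])
    have hbx : b • x ≠ 0 := fun e => hx0 (by rwa [smul_eq_zero_iff_eq] at e)
    haveI := Fintype.ofFinite U
    have h3' : ({0, x, b • x} : Finset U).card = 3 := by
      rw [Finset.card_insert_of_notMem (by simp [hx0.symm, hbx.symm]), Finset.card_pair (Ne.symm hx)]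
    have h4 := Finset.card_le_univ ({0, x, b • x} : Finset U)
    have h5 : Nat.card U ≤ 2 := hU ▸ le_trans (Nat.pow_le_pow_right (by norm_num) hm1) (by norm_num)
    rw [Nat.card_eq_fintype_card] at h5
    omega
  by_cases hm8 : 8 ≤ m
  · have hlt := card_lt_pow (B := B) rfl hU (by omega)
    have hN : 2 ^ m = 4 * 2 ^ (m - 2) := by
      rw [show (4 : ℕ) = 2 ^ 2 by norm_num, ← pow_add]; congr 1; omega
    have hpos : 0 < 2 ^ (m - 2) := by positivity
    refine exists_colour_of_bound (2 * 2 ^ (m - 2) - 1) (2 ^ (m - 2)) (fun b hb => ?_) (by omega)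
      (lt_of_lt_of_le hlt (Nat.pow_le_pow_right (by norm_num) (sq_le_two_pow m hm8)))
    obtain ⟨k, hk, hkW⟩ := hsub (fixPts b)
    have hne : k ≠ m := fun e => hb (eq_one_of_card (hkW.trans (e ▸ hU.symm)))
    have h1 := Nat.pow_le_pow_right (show 0 < 2 by norm_num) (show k + 1 ≤ m by omega)
    rw [pow_succ] at h1
    omega
  obtain ⟨hfix, hm3, hlt⟩ := small_bounds hs h3 hirr hU hsub hexp' (by omega) (by omega)
  have hN : 2 ^ m = 8 * 2 ^ (m - 3) ∧ 2 ^ (m - 2) = 2 * 2 ^ (m - 3) := by
    constructor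
    · rw [show (8 : ℕ) = 2 ^ 3 by norm_num, ← pow_add]; congr 1; omega
    · rw [← pow_succ']; congr 1; omega
  have hpos : 0 < 2 ^ (m - 3) := by positivity
  exact exists_colour_of_bound (2 ^ (m - 2) - 1) (3 * 2 ^ (m - 3)) (fun b hb => by have := hfix b hb; omega)
    (by omega) hlt

end CfsgLib.CoprimePair.CharTwo
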