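import Mathlib

/-!
A set of points with trivial setwise stabiliser, by counting the invariant sets of each element.
-/

set_option autoImplicit false
set_option linter.style.haveILetI false

namespace CfsgLib.CoprimePair

/-- The orbits of one element are at most half of the moved points plus the fixed points. -/
theorem two_mul_card_orbits_le {B T : Type} [Group B] [MulAction B T] [Finite T] (b : B) :
    2 * Nat.card (MulAction.orbitRel.Quotient (Subgroup.zpowers b) T) ≤
      Nat.card T + Nat.card {t : T // b • t = t} := by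
  classical
  set H := Subgroup.zpowers b with hH
  haveI := Fintype.ofFinite T
  let q : T → MulAction.orbitRel.Quotient H T := Quotient.mk''
  haveI := Fintype.ofFinite (MulAction.orbitRel.Quotient H T)
  have hq : ∀ t : T, q (b • t) = q t := fun t =>
    Quotient.sound' ⟨⟨b, Subgroup.mem_zpowers b⟩, rfl⟩
  rw [Nat.card_eq_fintype_card (α := T), Nat.card_eq_fintype_card (α := MulAction.orbitRel.Quotient H T),
    Nat.card_eq_fintype_card (α := {t : T // b • t = t}), Fintype.card_subtype, ← Finset.card_univ (α := T),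
    Finset.card_eq_sum_card_fiberwise (f := q) (t := Finset.univ) (fun x _ => Finset.mem_univ _),
    Finset.card_eq_sum_card_fiberwise (f := q) (t := Finset.univ)
      (s := Finset.univ.filter fun t : T => b • t = t) (fun x _ => Finset.mem_univ _),
    ← Finset.sum_add_distrib, ← Finset.card_univ, mul_comm, ← smul_eq_mul, ← Finset.sum_const]
  refine Finset.sum_le_sum fun c _ => ?_
  obtain ⟨t, rfl⟩ := Quotient.exists_rep c
  by_cases ht : b • t = t
  · have h1 : 0 < (Finset.univ.filter fun x => q x = Quotient.mk _ t).card :=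
      Finset.card_pos.mpr ⟨t, by simp [q]⟩
    have h2 : 0 < ((Finset.univ.filter fun x : T => b • x = x).filter fun x => q x = Quotient.mk _ t).card :=
      Finset.card_pos.mpr ⟨t, by simp [q, ht]⟩
    omega
  · have h1 : 1 < (Finset.univ.filter fun x => q x = Quotient.mk _ t).card :=
      Finset.one_lt_card.mpr ⟨b • t, Finset.mem_filter.mpr ⟨Finset.mem_univ _, (hq t).trans rfl⟩,
        t, Finset.mem_filter.mpr ⟨Finset.mem_univ _, rfl⟩, ht⟩
    omega

/-- If the sets fixed by non-trivial elements are fewer than all sets, one set has trivial stabiliser. -/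
theorem exists_rigid_set {B T : Type} [Group B] [Finite B] [MulAction B T] [Finite T] (f : ℕ)
    (hfix : ∀ b : B, b ≠ 1 → Nat.card {t : T // b • t = t} ≤ f)
    (hlt : Nat.card B * 2 ^ ((Nat.card T + f) / 2) < 2 ^ Nat.card T) :
    ∃ S : Set T, ∀ b : B, (∀ t, t ∈ S ↔ b • t ∈ S) → b = 1 := by
  classical
  haveI := Fintype.ofFinite T
  haveI := Fintype.ofFinite B
  by_contra hno
  push Not at hno
  let Inv : B → Finset (Set T) := fun b => Finset.univ.filter fun S => ∀ t, t ∈ S ↔ b • t ∈ S
  have hcover : (Finset.univ : Finset (Set T)) ⊆ (Finset.univ.erase (1 : B)).biUnion Inv := by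
    intro S _
    obtain ⟨b, hb, hb1⟩ := hno S
    exact Finset.mem_biUnion.mpr ⟨b, Finset.mem_erase.mpr ⟨hb1, Finset.mem_univ _⟩,
      Finset.mem_filter.mpr ⟨Finset.mem_univ _, hb⟩⟩
  have hone : ∀ b ∈ Finset.univ.erase (1 : B), (Inv b).card ≤ 2 ^ ((Nat.card T + f) / 2) := by
    intro b hb
    have h1 := two_mul_card_orbits_le (T := T) b
    have h2 := hfix b (Finset.mem_erase.mp hb).1
    haveI := Fintype.ofFinite (MulAction.orbitRel.Quotient (Subgroup.zpowers b) T)
    refine le_trans ?_ (Nat.pow_le_pow_right (by norm_num)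
      (show Nat.card (MulAction.orbitRel.Quotient (Subgroup.zpowers b) T) ≤ (Nat.card T + f) / 2 by omega))
    rw [Nat.card_eq_fintype_card, ← Fintype.card_set, ← Finset.card_univ]
    refine Finset.card_le_card_of_injOn (fun S => (Quotient.mk'' : T → MulAction.orbitRel.Quotient _ T) '' S)
      (fun S _ => Finset.mem_univ _) fun S hS S' hS' e => ?_
    have key : ∀ {X : Set T}, X ∈ Inv b → ∀ t, ((Quotient.mk'' t : MulAction.orbitRel.Quotient (Subgroup.zpowers b) T) ∈
        (Quotient.mk'' : T → MulAction.orbitRel.Quotient _ T) '' X ↔ t ∈ X) := by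
      intro X hX t
      refine ⟨?_, fun h => ⟨t, h, rfl⟩⟩
      rintro ⟨u, hu, he⟩
      obtain ⟨g, rfl⟩ : u ∈ MulAction.orbit (Subgroup.zpowers b) t := Quotient.exact' he
      obtain ⟨n, hn⟩ := g.2
      have hstab : ∀ x, x ∈ X ↔ b • x ∈ X := (Finset.mem_filter.mp hX).2
      have hpow : ∀ (n : ℤ) x, x ∈ X ↔ b ^ n • x ∈ X := by
        intro n
        induction n using Int.induction_on with
        | zero => simp
        | succ n ih => intro x; rw [add_comm, zpow_add, zpow_one, mul_smul, ← hstab, ← ih]
        | pred n ih => intro x; rw [show -(n : ℤ) - 1 = -1 + -(n : ℤ) by ring, zpow_add, zpow_neg_one, mul_smul,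
            hstab (b⁻¹ • _), smul_inv_smul, ← ih]
      rw [hpow n t]
      rwa [show b ^ n • t = g • t by rw [Subgroup.smul_def, ← hn]]
    ext t
    rw [← key (Finset.mem_coe.mp hS) t, ← key (Finset.mem_coe.mp hS') t]
    exact iff_of_eq (congrArg (fun X => _ ∈ X) e)
  have h1 := (Finset.card_le_card hcover).trans (Finset.card_biUnion_le_card_mul _ _ _ hone)
  rw [Finset.card_univ, Fintype.card_set, Finset.card_erase_of_mem (Finset.mem_univ _), Finset.card_univ,
    ← Nat.card_eq_fintype_card, ← Nat.card_eq_fintype_card] at h1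
  have h3 : (Nat.card B - 1) * 2 ^ ((Nat.card T + f) / 2) ≤ Nat.card B * 2 ^ ((Nat.card T + f) / 2) :=
    Nat.mul_le_mul_right _ (Nat.sub_le _ _)
  omega

end CfsgLib.CoprimePair
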