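import Mathlib

/-!
Colourings of a vector space over a prime field preserved only by the identity map:
five colours in every characteristic, three colours from characteristic five on.
-/

set_option autoImplicit false
set_option linter.style.haveILetI false

namespace CfsgLib.CoprimePair

variable {U : Type} [AddCommGroup U] {r : ℕ} [Fact r.Prime] [Module (ZMod r) U] {m : ℕ}
  (b : Module.Basis (Fin m) (ZMod r) U)

theorem repr_add_basis (i j l : Fin m) :
    b.repr (b i + b j) l = (if i = l then 1 else 0) + (if j = l then 1 else 0) := by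
  rw [map_add, Finsupp.add_apply, b.repr_self, b.repr_self, Finsupp.single_apply, Finsupp.single_apply]

theorem repr_basis (i l : Fin m) : b.repr (b i) l = if i = l then 1 else 0 := by
  rw [b.repr_self, Finsupp.single_apply]

/-- A sum of two different basis vectors is not a basis vector. -/
theorem add_basis_ne (i j k : Fin m) (hij : i ≠ j) : b i + b j ≠ b k := by
  intro h
  have h1 := congrArg (fun x => b.repr x i) h
  have h2 := congrArg (fun x => b.repr x j) h
  simp only [repr_add_basis, repr_basis, if_true, if_neg hij.symm, if_neg hij, add_zero, zero_add] at h1 h2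
  rcases eq_or_ne k i with rfl | hk
  · rw [if_neg hij] at h2
    exact one_ne_zero h2
  · rw [if_neg hk] at h1
    exact one_ne_zero h1

theorem add_basis_ne_zero (i j : Fin m) (hij : i ≠ j) : b i + b j ≠ 0 := by
  intro h
  have h1 := congrArg (fun x => b.repr x i) h
  simp only [repr_add_basis, if_true, if_neg hij.symm, add_zero, map_zero, Finsupp.zero_apply] at h1
  exact one_ne_zero h1

/-- Sums of two basis vectors determine the two vectors. -/
theorem add_basis_eq {i j k l : Fin m} (h2 : (2 : ZMod r) ≠ 0 ∨ i ≠ j) (h : b i + b j = b k + b l) :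
    (i = k ∧ j = l) ∨ (i = l ∧ j = k) := by
  have hi : i = k ∨ i = l := by
    by_contra hn
    push Not at hn
    have h1 := congrArg (fun x => b.repr x i) h
    simp only [repr_add_basis, if_true, if_neg hn.1.symm, if_neg hn.2.symm, add_zero] at h1
    rcases eq_or_ne j i with hji | hji
    · rw [if_pos hji, one_add_one_eq_two] at h1
      exact (h2.resolve_right fun hne => hne hji.symm) h1
    · rw [if_neg hji, add_zero] at h1
      exact one_ne_zero h1
  rcases hi with rfl | rfl
  · exact Or.inl ⟨rfl, b.injective (add_left_cancel h)⟩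
  · rw [add_comm (b k)] at h
    exact Or.inr ⟨rfl, b.injective (add_left_cancel h)⟩

/-- An additive map fixing every basis vector is the identity. -/
theorem eq_self_of_basis (f : U →+ U) (h : ∀ i, f (b i) = b i) (x : U) : f x = x := by
  have e : f.toZModLinearMap r = LinearMap.id := b.ext fun i => h i
  exact LinearMap.congr_fun e x

end CfsgLib.CoprimePair

namespace CfsgLib.CoprimePair

open scoped Classical in
/-- Five colours: zero, a first basis vector, the other basis vectors, the path, the rest. -/
theorem exists_five_colours {U : Type} [AddCommGroup U] [Finite U] {r : ℕ} [Fact r.Prime]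
    (hexp : ∀ x : U, r • x = 0) {k : ℕ} (hk : 5 ≤ k) :
    ∃ c : U → Fin k, (∀ x, c x = c 0 → x = 0) ∧
      ∀ f : U →+ U, Function.Injective f → (∀ x, c (f x) = c x) → ∀ x, f x = x := by
  letI : Module (ZMod r) U := AddCommGroup.zmodModule (n := r) hexp
  haveI : Module.Finite (ZMod r) U := Module.Finite.of_finite
  obtain ⟨m, ⟨b⟩⟩ : ∃ m : ℕ, Nonempty (Module.Basis (Fin (Module.finrank (ZMod r) U)) (ZMod r) U) :=
    by
    exact ⟨Module.finrank (ZMod r) U, ⟨Module.finBasis (ZMod r) U⟩⟩
  let Z : U → Prop := fun x => ∃ i : Fin (Module.finrank (ZMod r) U), (i : ℕ) = 0 ∧ x = b i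
  let E : U → Prop := fun x => ∃ i : Fin (Module.finrank (ZMod r) U), x = b i
  let P : U → Prop := fun x => ∃ i j : Fin (Module.finrank (ZMod r) U), (i : ℕ) + 1 = j ∧ x = b i + b j
  let c : U → Fin k := fun x => if x = 0 then ⟨0, by omega⟩ else if Z x then ⟨1, by omega⟩
    else if E x then ⟨2, by omega⟩ else if P x then ⟨3, by omega⟩ else ⟨4, by omega⟩
  have hc0 : ∀ x, c x = c 0 → x = 0 := fun x h => by
    by_contra hx
    simp only [c, if_true, if_neg hx] at h
    split_ifs at h <;> simp [Fin.ext_iff] at h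
  have hE0 : ∀ x, E x → x ≠ 0 := by
    rintro x ⟨i, rfl⟩
    exact b.ne_zero i
  have hPE : ∀ x, P x → ¬ E x ∧ x ≠ 0 := by
    rintro x ⟨i, j, hij, rfl⟩
    have hne : i ≠ j := fun e => by rw [e] at hij; omega
    exact ⟨fun ⟨l, hl⟩ => add_basis_ne b i j l hne hl, add_basis_ne_zero b i j hne⟩
  refine ⟨c, hc0, fun f hf hcf => ?_⟩
  have hZ : ∀ x, Z x → Z (f x) := fun x hx => by
    have hx0 : x ≠ 0 := hE0 x (let ⟨i, _, hi⟩ := hx; ⟨i, hi⟩)
    have h := hcf x
    simp only [c, if_neg hx0, if_pos hx] at h
    split_ifs at h with h1 h2 <;> simp [Fin.ext_iff] at h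
    exact h2
  have hE : ∀ x, E x → E (f x) := fun x hx => by
    by_cases hz : Z x
    · obtain ⟨i, -, hi⟩ := hZ x hz
      exact ⟨i, hi⟩
    have h := hcf x
    simp only [c, if_neg (hE0 x hx), if_neg hz, if_pos hx] at h
    split_ifs at h with h1 h2 h3 <;> simp [Fin.ext_iff] at h
    exact h3
  have hP : ∀ x, P x → P (f x) := fun x hx => by
    have hz : ¬ Z x := fun ⟨i, _, hi⟩ => (hPE x hx).1 ⟨i, hi⟩
    have h := hcf x
    simp only [c, if_neg (hPE x hx).2, if_neg hz, if_neg (hPE x hx).1, if_pos hx] at h
    split_ifs at h with h1 h2 h3 h4 <;> simp [Fin.ext_iff] at h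
    exact h4
  refine eq_self_of_basis b f fun i => ?_
  suffices h : ∀ (n : ℕ) (i : Fin (Module.finrank (ZMod r) U)), (i : ℕ) = n → f (b i) = b i from h i i rfl
  intro n
  induction n using Nat.strong_induction_on with
  | _ n ih =>
  intro i hi
  rcases n with _ | n
  · obtain ⟨l, hl, he⟩ := hZ (b i) ⟨i, hi, rfl⟩
    rw [he, show l = i from Fin.ext (by omega)]
  · let i' : Fin (Module.finrank (ZMod r) U) := ⟨n, by omega⟩
    have hfi : f (b i') = b i' := ih n (Nat.lt_succ_self n) i' rfl
    obtain ⟨l, hl⟩ := hE (b i) ⟨i, rfl⟩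
    obtain ⟨u, v, huv, he⟩ := hP (b i' + b i) ⟨i', i, by simp [i', hi], rfl⟩
    rw [map_add, hfi, hl] at he
    have hli : l ≠ i' := fun e => by
      have h1 : b i = b i' := hf (by rw [hl, hfi, e])
      have h2 := Fin.val_eq_of_eq (b.injective h1)
      simp only [i'] at h2
      omega
    rw [hl]
    rcases add_basis_eq b (Or.inr hli.symm) he with ⟨h1, h2⟩ | ⟨h1, h2⟩
    · congr 1
      exact Fin.ext (by rw [h2, ← huv, ← h1, hi])
    · have hln : (l : ℕ) + 1 = n := by rw [h2, huv, ← h1]
      have h3 : b i = b l := hf (by rw [hl, ih l (by omega) l rfl])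
      have h4 := Fin.val_eq_of_eq (b.injective h3)
      omega

open scoped Classical in
/-- Three colours from characteristic five on: zero, a set `S`, the rest. -/
theorem exists_three_colours {U : Type} [AddCommGroup U] [Finite U] {r : ℕ} [Fact r.Prime]
    (hr : 5 ≤ r) (hexp : ∀ x : U, r • x = 0) :
    ∃ c : U → Fin 3, (∀ x, c x = c 0 → x = 0) ∧
      ∀ f : U →+ U, Function.Injective f → (∀ x, c (f x) = c x) → ∀ x, f x = x := by
  letI : Module (ZMod r) U := AddCommGroup.zmodModule (n := r) hexp
  haveI : Module.Finite (ZMod r) U := Module.Finite.of_finite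
  obtain ⟨m, ⟨b⟩⟩ : ∃ m : ℕ, Nonempty (Module.Basis (Fin (Module.finrank (ZMod r) U)) (ZMod r) U) :=
    by
    exact ⟨Module.finrank (ZMod r) U, ⟨Module.finBasis (ZMod r) U⟩⟩
  have hnat : ∀ a a' : ℕ, a < 5 → a' < 5 → (a : ZMod r) = a' → a = a' := fun a a' ha ha' h => by
    have h1 := congrArg ZMod.val h
    rwa [ZMod.val_cast_of_lt (by omega), ZMod.val_cast_of_lt (by omega)] at h1
  have h2 : (2 : ZMod r) ≠ 0 := fun h => absurd (hnat 2 0 (by omega) (by omega) (by simpa using h)) (by omega)
  let σ : U →ₗ[ZMod r] ZMod r := b.constr (ZMod r) fun _ => 1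
  have hσ : ∀ i, σ (b i) = 1 := fun i => b.constr_basis _ _ i
  let S : U → Prop := fun x => (∃ i : Fin (Module.finrank (ZMod r) U), x = b i) ∨
    ∃ i j : Fin (Module.finrank (ZMod r) U), ((i : ℕ) + 1 = j ∨ (i = j ∧ (i : ℕ) = 0)) ∧ x = b i + b j
  have hσS : ∀ x, S x → σ x = 1 ∨ σ x = 2 := by
    rintro x (⟨i, rfl⟩ | ⟨i, j, -, rfl⟩)
    · exact Or.inl (hσ i)
    · exact Or.inr (by rw [map_add, hσ, hσ, one_add_one_eq_two])
  have hS0 : ¬ S 0 := fun h => by
    rcases hσS 0 h with h | h <;> rw [map_zero] at h
    · exact zero_ne_one h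
    · exact h2 h.symm
  let c : U → Fin 3 := fun x => if x = 0 then 0 else if S x then 1 else 2
  have hc0 : ∀ x, c x = c 0 → x = 0 := fun x h => by
    by_contra hx
    simp only [c, if_true, if_neg hx] at h
    split_ifs at h <;> simp [Fin.ext_iff] at h
  refine ⟨c, hc0, fun f hf hcf => ?_⟩
  have hS : ∀ x, S x → S (f x) := fun x hx => by
    have hx0 : x ≠ 0 := fun e => hS0 (e ▸ hx)
    have h := hcf x
    simp only [c, if_neg hx0, if_pos hx] at h
    split_ifs at h with h1 h3 <;> simp [Fin.ext_iff] at h
    exact h3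
  refine eq_self_of_basis b f fun i => ?_
  suffices h : ∀ (n : ℕ) (i : Fin (Module.finrank (ZMod r) U)), (i : ℕ) = n → f (b i) = b i from h i i rfl
  intro n
  induction n using Nat.strong_induction_on with
  | _ n ih =>
  intro i hi
  rcases n with _ | n
  · have hu : S (f (b i)) := hS _ (Or.inl ⟨i, rfl⟩)
    have huu : S (f (b i) + f (b i)) := by
      rw [← map_add]
      exact hS _ (Or.inr ⟨i, i, Or.inr ⟨rfl, hi⟩, rfl⟩)
    rcases hu with ⟨l, hl⟩ | ⟨u, v, -, he⟩
    · rw [hl] at huu ⊢
      rcases huu with ⟨q, hq⟩ | ⟨u, v, huv, he⟩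
      · have h := congrArg σ hq
        rw [map_add, hσ, hσ] at h
        exact absurd (add_eq_left.mp h) one_ne_zero
      · rcases add_basis_eq b (Or.inl h2) he with ⟨h1, h3⟩ | ⟨h1, h3⟩ <;>
        · rcases huv with huv | ⟨-, huv⟩
          · rw [← h1, ← h3] at huv
            omega
          · first
              | rw [← h1] at huv
              | rw [← h3] at huv
            congr 1
            exact Fin.ext (by omega)
    · have h4 : σ (f (b i) + f (b i)) = ((4 : ℕ) : ZMod r) := by
        rw [he, map_add, map_add, hσ, hσ]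
        push_cast
        ring
      rcases hσS _ huu with h | h <;> rw [h4] at h
      · exact absurd (hnat 4 1 (by omega) (by omega) (by simpa using h)) (by omega)
      · exact absurd (hnat 4 2 (by omega) (by omega) (by simpa using h)) (by omega)
  · let i' : Fin (Module.finrank (ZMod r) U) := ⟨n, by omega⟩
    have hfi : f (b i') = b i' := ih n (Nat.lt_succ_self n) i' rfl
    have hu : S (f (b i)) := hS _ (Or.inl ⟨i, rfl⟩)
    have hw : S (b i' + f (b i)) := by
      rw [← hfi, ← map_add]
      exact hS _ (Or.inr ⟨i', i, Or.inl (by simp [i', hi]), rfl⟩)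
    rcases hu with ⟨l, hl⟩ | ⟨u, v, -, he⟩
    · rw [hl] at hw ⊢
      have hli : l ≠ i' := fun e => by
        have h1 : b i = b i' := hf (by rw [hl, hfi, e])
        have h3 := Fin.val_eq_of_eq (b.injective h1)
        simp only [i'] at h3
        omega
      rcases hw with ⟨q, hq⟩ | ⟨u, v, huv, he⟩
      · exact absurd hq (add_basis_ne b i' l q hli.symm)
      · rcases huv with huv | ⟨huv, -⟩
        · rcases add_basis_eq b (Or.inl h2) he with ⟨h1, h3⟩ | ⟨h1, h3⟩
          · congr 1
            exact Fin.ext (by rw [h3, ← huv, ← h1, hi])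
          · have hln : (l : ℕ) + 1 = n := by rw [h3, huv, ← h1]
            have h4 : b i = b l := hf (by rw [hl, ih l (by omega) l rfl])
            have h5 := Fin.val_eq_of_eq (b.injective h4)
            omega
        · rcases add_basis_eq b (Or.inl h2) he with ⟨h1, h3⟩ | ⟨h1, h3⟩
          · exact absurd (h3.trans (huv.symm.trans h1.symm)) hli
          · exact absurd (h3.trans (huv.trans h1.symm)) hli
    · have h3 : σ (b i' + f (b i)) = ((3 : ℕ) : ZMod r) := by
        rw [he, map_add, map_add, hσ, hσ, hσ]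
        push_cast
        ring
      rcases hσS _ hw with h | h <;> rw [h3] at h
      · exact absurd (hnat 3 1 (by omega) (by omega) (by simpa using h)) (by omega)
      · exact absurd (hnat 3 2 (by omega) (by omega) (by simpa using h)) (by omega)

end CfsgLib.CoprimePair
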