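import Cfsg.Agent.CoprimePair.Colour.Linear
import Cfsg.Agent.CoprimePair.Colour.CharTwo
import Cfsg.Agent.ThreeVec49.System

/-!
Colourings of the cosets of a maximal subgroup of a solvable group of order prime to `p`,
with `p` colours, preserved only by the elements fixing every coset.
-/

set_option autoImplicit false
set_option linter.style.haveILetI false
set_option linter.unusedSectionVars false

namespace CfsgLib.CoprimePair

open scoped commutatorElement

/-- Three colours for the linear part of a primitive affine group. -/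
theorem exists_three_linear {H U : Type} [Group H] [Finite H] [AddCommGroup U] [Finite U] [DistribMulAction H U]
    (hs : Group.IsSolvable H) (h3 : (Nat.card H).Coprime 3) (hirr : OddPair.IsIrr H U) {r : ℕ} (hr : r.Prime)
    (hr3 : r ≠ 3) (hexp : ∀ x : U, r • x = 0) :
    ∃ c : U → Fin 3, (∀ x, c x = c 0 → x = 0) ∧
      ∀ h : H, (∀ x, c (h • x) = c x) → ∀ x : U, h • x = x := by
  haveI := Fact.mk hr
  rcases le_or_gt 5 r with h5 | h5
  · obtain ⟨c, hc0, hc⟩ := exists_three_colours h5 hexp
    exact ⟨c, hc0, fun h hh => hc (DistribSMul.toAddMonoidHom U h) (MulAction.injective h) hh⟩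
  obtain rfl : r = 2 := by
    have := hr.two_le
    interval_cases r <;> first | rfl | omega | exact absurd hr (by norm_num)
  let π : H →* Equiv.Perm U := MulAction.toPermHom H U
  let B := π.range
  have happ : ∀ g : B, ∃ a : H, ∀ x : U, (g : Equiv.Perm U) x = a • x := fun g => by
    obtain ⟨a, ha⟩ := g.2
    exact ⟨a, fun x => by rw [← ha]; rfl⟩
  letI : DistribMulAction B U :=
    { smul := fun g x => (g : Equiv.Perm U) x
      one_smul := fun x => rfl
      mul_smul := fun g h x => rfl
      smul_zero := fun g => by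
        obtain ⟨a, ha⟩ := happ g
        exact (ha 0).trans (smul_zero a)
      smul_add := fun g x y => by
        obtain ⟨a, ha⟩ := happ g
        show (g : Equiv.Perm U) (x + y) = (g : Equiv.Perm U) x + (g : Equiv.Perm U) y
        rw [ha, ha, ha, smul_add] }
  haveI : FaithfulSMul B U := ⟨fun {g h} e => Subtype.ext (Equiv.ext e)⟩
  haveI := hs
  obtain ⟨c, hc0, hc⟩ := CharTwo.exists_three_colours (B := B) hexp
    (Group.isSolvable_of_surjective π.rangeRestrict_surjective)
    (h3.coprime_dvd_left (Subgroup.card_range_dvd π))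
    (fun W hW => hirr W fun a x hx => hW ⟨π a, a, rfl⟩ x hx)
  refine ⟨c, hc0, fun h hh x => ?_⟩
  have e := hc ⟨π h, h, rfl⟩ hh
  exact congrArg (fun g : B => (g : Equiv.Perm U) x) e

/-- Three colours for the cosets of a maximal subgroup. -/
theorem exists_colouring_three {A : Type} [Group A] [Finite A] [hs : Group.IsSolvable A]
    (hcop : (Nat.card A).Coprime 3) (H : Subgroup A) (hH : H ≠ ⊤) (hmax : ∀ M : Subgroup A, H < M → M = ⊤) :
    ∃ c : A ⧸ H → Fin 3, ∀ a : A, (∀ q : A ⧸ H, c (a • q) = c q) → ∀ q : A ⧸ H, a • q = q := by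
  classical
  let R := H.normalCore
  have hRH : R ≤ H := H.normalCore_le
  obtain ⟨N, ⟨hNn, hRN⟩, hNmin⟩ := Set.Finite.exists_minimalFor id
    {M : Subgroup A | M.Normal ∧ R < M} (Set.toFinite _)
    ⟨⊤, inferInstance, lt_of_le_of_lt hRH (lt_top_iff_ne_top.2 hH)⟩
  haveI := hNn
  -- the section is commutative
  have hcomm : ∀ x ∈ N, ∀ y ∈ N, ⁅x, y⁆ ∈ R := by
    let q := QuotientGroup.mk' R
    have hq := QuotientGroup.mk'_surjective R
    haveI : (N.map q).Normal := Subgroup.Normal.map inferInstance q hq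
    haveI : Group.IsSolvable (A ⧸ R) := Group.isSolvable_of_surjective hq
    have h1 : N.map q ≠ ⊥ := by
      rw [Ne, Subgroup.map_eq_bot_iff, QuotientGroup.ker_mk']
      exact not_le_of_gt hRN
    have h2 := OddPair.commutative_of_minimal (N.map q) h1 fun M hM hle => by
      by_cases hb : M = ⊥
      · exact Or.inl hb
      refine Or.inr (le_antisymm hle ?_)
      have hR : R < M.comap q := by
        refine lt_of_le_of_ne (fun x hx => ?_) fun h => hb ?_
        · show q x ∈ M
          rw [show q x = 1 from (QuotientGroup.eq_one_iff x).2 hx]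
          exact one_mem M
        · rw [← Subgroup.map_comap_eq_self_of_surjective hq M, ← h, QuotientGroup.map_mk'_self]
      have hle' : M.comap q ≤ N := fun x hx => by
        obtain ⟨n, hn, hnx⟩ := hle hx
        have h3 : n⁻¹ * x ∈ R := QuotientGroup.eq.1 hnx
        have h4 := mul_mem hn (hRN.le h3)
        rwa [mul_inv_cancel_left] at h4
      have h5 : N ≤ M.comap q := hNmin (j := M.comap q) ⟨Subgroup.Normal.comap hM q, hR⟩ hle'
      exact (Subgroup.map_mono h5).trans (Subgroup.map_comap_le q M)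
    intro x hx y hy
    rw [← QuotientGroup.eq_one_iff]
    show q ⁅x, y⁆ = 1
    rw [map_commutatorElement, commutatorElement_eq_one_iff_mul_comm]
    exact h2 _ ⟨x, hx, rfl⟩ _ ⟨y, hy, rfl⟩
  have hNH : ¬ N ≤ H := fun h => not_le_of_gt hRN (Subgroup.normal_le_normalCore.2 h)
  have htop : N ⊔ H = ⊤ := hmax _ (lt_of_le_of_ne le_sup_right fun h => hNH (h ▸ le_sup_left))
  have hdec : ∀ g : A, ∃ n ∈ N, ∃ h ∈ H, n * h = g := fun g =>
    Subgroup.mem_sup_of_normal_left.1 (htop.ge (Subgroup.mem_top g))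
  have hinf : ∀ x ∈ N, x ∈ H → x ∈ R := by
    intro x hxN hxH
    have hnorm : (N ⊓ H).Normal := by
      refine ⟨fun y hy g => ?_⟩
      obtain ⟨n, hn, h, hh, rfl⟩ := hdec g
      have h1 : h * y * h⁻¹ ∈ N ⊓ H :=
        Subgroup.mem_inf.2 ⟨hNn.conj_mem y hy.1 h, H.mul_mem (H.mul_mem hh hy.2) (H.inv_mem hh)⟩
      have h2 : n * h * y * (n * h)⁻¹ = ⁅n, h * y * h⁻¹⁆ * (h * y * h⁻¹) := by
        rw [commutatorElement_def]; group
      rw [h2]
      have h3 := hcomm n hn _ h1.1
      exact mul_mem ⟨hRN.le h3, hRH h3⟩ h1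
    exact Subgroup.normal_le_normalCore.2 inf_le_right ⟨hxN, hxH⟩
  haveI : (R.subgroupOf N).Normal := Subgroup.Normal.subgroupOf inferInstance N
  let gr : Group (N ⧸ R.subgroupOf N) := inferInstance
  letI : CommGroup (N ⧸ R.subgroupOf N) := { gr with
    mul_comm := fun a b => by
      induction a using QuotientGroup.induction_on with
      | _ x =>
        induction b using QuotientGroup.induction_on with
        | _ y =>
          refine (QuotientGroup.eq).2 ?_
          rw [Subgroup.mem_subgroupOf]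
          have h1 : (((x * y)⁻¹ * (y * x) : N) : A) = ⁅(y : A)⁻¹, (x : A)⁻¹⁆ := by
            push_cast; rw [commutatorElement_def]; group
          rw [h1]
          exact hcomm _ (inv_mem y.2) _ (inv_mem x.2) }
  let mkN : N →* N ⧸ R.subgroupOf N := QuotientGroup.mk' _
  have hmk1 : ∀ n : N, mkN n = 1 ↔ (n : A) ∈ R := fun n => by
    rw [QuotientGroup.mk'_apply, QuotientGroup.eq_one_iff, Subgroup.mem_subgroupOf]
  -- the conjugation action on the section
  let ca : A → N →* N := fun a =>
    { toFun := fun n => ⟨a * (n : A) * a⁻¹, hNn.conj_mem _ n.2 a⟩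
      map_one' := Subtype.ext (by simp)
      map_mul' := fun x y => Subtype.ext (by push_cast; group) }
  let τ : A → (N ⧸ R.subgroupOf N) →* (N ⧸ R.subgroupOf N) := fun a => QuotientGroup.map _ _ (ca a) fun n hn => by
    rw [Subgroup.mem_comap, Subgroup.mem_subgroupOf]
    exact (Subgroup.normalCore_normal H).conj_mem _ (Subgroup.mem_subgroupOf.1 hn) a
  have hτ : ∀ a n, τ a (mkN n) = mkN (ca a n) := fun a n => rfl
  have hτmul : ∀ a b x, τ (a * b) x = τ a (τ b x) := by
    intro a b x
    obtain ⟨n, rfl⟩ := QuotientGroup.mk'_surjective (R.subgroupOf N) x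
    show mkN (ca (a * b) n) = mkN (ca a (ca b n))
    congr 1
    refine Subtype.ext ?_
    show a * b * (n : A) * (a * b)⁻¹ = a * (b * n * b⁻¹) * a⁻¹
    group
  have hτN : ∀ m ∈ N, ∀ x, τ m x = x := by
    intro m hm x
    obtain ⟨n, rfl⟩ := QuotientGroup.mk'_surjective (R.subgroupOf N) x
    show mkN (ca m n) = mkN n
    have e : ca m n = (⟨m, hm⟩ : N) * n * (⟨m, hm⟩ : N)⁻¹ := Subtype.ext (by push_cast; rfl)
    rw [e, map_mul, map_mul, map_inv, mul_comm (mkN _) (mkN n), mul_inv_cancel_right]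
  have hsec : ∀ S : Subgroup (N ⧸ R.subgroupOf N), (∀ h ∈ H, ∀ x ∈ S, τ h x ∈ S) → S = ⊥ ∨ S = ⊤ := by
    intro S hS
    by_cases hb : S = ⊥
    · exact Or.inl hb
    refine Or.inr (eq_top_iff.2 fun x _ => ?_)
    let M : Subgroup A := (S.comap mkN).map N.subtype
    have hMmem : ∀ n : N, (n : A) ∈ M ↔ mkN n ∈ S := fun n =>
      ⟨fun ⟨m, hm, e⟩ => (show m = n from Subtype.ext e) ▸ hm, fun h => ⟨n, h, rfl⟩⟩
    have hMn : M.Normal := by
      refine ⟨fun y hy g => ?_⟩
      obtain ⟨n, hn, rfl⟩ := hy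
      obtain ⟨m, hm, h, hh, rfl⟩ := hdec g
      refine ⟨ca (m * h) n, ?_, rfl⟩
      show τ (m * h) (mkN n) ∈ S
      rw [hτmul, hτN m hm]
      exact hS h hh _ hn
    have hRM : R < M := by
      refine lt_of_le_of_ne (fun y hy => ?_) fun e => hb ((Subgroup.eq_bot_iff_forall S).2 fun z hz => ?_)
      · exact (hMmem ⟨y, hRN.le hy⟩).2 (by rw [(hmk1 ⟨y, hRN.le hy⟩).2 hy]; exact one_mem S)
      · obtain ⟨n, rfl⟩ := QuotientGroup.mk'_surjective (R.subgroupOf N) z
        exact (hmk1 n).2 (e.ge ((hMmem n).2 hz))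
    have hNM : N ≤ M := hNmin (j := M) ⟨hMn, hRM⟩ (Subgroup.map_subtype_le _)
    obtain ⟨n, rfl⟩ := QuotientGroup.mk'_surjective (R.subgroupOf N) x
    exact (hMmem n).1 (hNM n.2)
  haveI : Nontrivial (N ⧸ R.subgroupOf N) := by
    obtain ⟨y, hyN, hyR⟩ := SetLike.exists_of_lt hRN
    exact ⟨⟨mkN ⟨y, hyN⟩, 1, fun e => hyR ((hmk1 _).1 e)⟩⟩
  obtain ⟨r, hr, hrd⟩ := Nat.exists_prime_and_dvd (n := Nat.card (N ⧸ R.subgroupOf N))
    Finite.one_lt_card.ne'
  have hr3 : r ≠ 3 := fun e => by
    have h1 : r ∣ Nat.card A := hrd.trans ((Subgroup.card_quotient_dvd_card _).trans (Subgroup.card_subgroup_dvd_card N))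
    exact (Nat.Prime.coprime_iff_not_dvd Nat.prime_three).1 hcop.symm (e ▸ h1)
  have hexp : ∀ x : N ⧸ R.subgroupOf N, x ^ r = 1 := by
    rcases hsec (powMonoidHom r).ker (fun h hh x hx => by
      rw [MonoidHom.mem_ker, powMonoidHom_apply] at hx ⊢
      rw [← map_pow, hx, map_one]) with h | h
    · haveI := Fact.mk hr
      obtain ⟨z, hz⟩ := exists_prime_orderOf_dvd_card' r hrd
      have h1 : z ∈ (powMonoidHom r : (N ⧸ R.subgroupOf N) →* _).ker := by
        rw [MonoidHom.mem_ker, powMonoidHom_apply, ← hz, pow_orderOf_eq_one]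
      rw [h, Subgroup.mem_bot] at h1
      rw [h1, orderOf_one] at hz
      exact absurd hz hr.one_lt.ne
    · intro x
      have h1 : x ∈ (powMonoidHom r : (N ⧸ R.subgroupOf N) →* _).ker := h.ge (Subgroup.mem_top x)
      exact h1
  -- the linear colouring
  letI : DistribMulAction H (Additive (N ⧸ R.subgroupOf N)) :=
    { smul := fun h x => Additive.ofMul (τ (h : A) x.toMul)
      one_smul := fun x => hτN 1 (one_mem N) x.toMul
      mul_smul := fun a b x => hτmul (a : A) (b : A) x.toMul
      smul_zero := fun h => map_one (τ (h : A))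
      smul_add := fun h x y => map_mul (τ (h : A)) x.toMul y.toMul }
  obtain ⟨col, hcol0, hcol⟩ := exists_three_linear (H := H) (U := Additive (N ⧸ R.subgroupOf N))
    (inferInstance) (hcop.coprime_dvd_left (Subgroup.card_subgroup_dvd_card H))
    (fun W hW => by
      let S : Subgroup (N ⧸ R.subgroupOf N) := AddSubgroup.toSubgroup' W
      rcases hsec S (fun h hh x hx => hW ⟨h, hh⟩ (Additive.ofMul x) hx) with h | h
      · exact Or.inl ((AddSubgroup.eq_bot_iff_forall W).2 fun x hx => by
          have h1 : x.toMul ∈ S := hx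
          rw [h, Subgroup.mem_bot] at h1
          exact h1)
      · exact Or.inr ((AddSubgroup.eq_top_iff' W).2 fun x => by
          have h1 : x.toMul ∈ S := h.ge (Subgroup.mem_top _)
          exact h1))
    hr hr3 (fun x => hexp x.toMul)
  -- cosets against the section
  let pt : A ⧸ H := QuotientGroup.mk 1
  have hnof : ∀ q : A ⧸ H, ∃ n : N, (n : A) • pt = q := by
    intro q
    induction q using QuotientGroup.induction_on with
    | _ a =>
      obtain ⟨n, hn, h, hh, rfl⟩ := hdec a
      refine ⟨⟨n, hn⟩, ?_⟩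
      show (QuotientGroup.mk (n * 1) : A ⧸ H) = QuotientGroup.mk (n * h)
      rw [QuotientGroup.eq]
      simpa [mul_assoc] using hh
  choose nOf hnOf using hnof
  have huniq : ∀ n m : N, (n : A) • pt = (m : A) • pt ↔ mkN n = mkN m := by
    intro n m
    show (QuotientGroup.mk ((n : A) * 1) : A ⧸ H) = QuotientGroup.mk ((m : A) * 1) ↔
      (QuotientGroup.mk n : N ⧸ R.subgroupOf N) = QuotientGroup.mk m
    rw [QuotientGroup.eq, QuotientGroup.eq, mul_one, mul_one, Subgroup.mem_subgroupOf]
    exact ⟨fun h => hinf _ (n⁻¹ * m).2 h, fun h => hRH h⟩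
  let vec : A ⧸ H → Additive (N ⧸ R.subgroupOf N) := fun q => Additive.ofMul (mkN (nOf q))
  have hvinj : ∀ q q', vec q = vec q' → q = q' := fun q q' e => by
    rw [← hnOf q, ← hnOf q']
    exact (huniq _ _).2 e
  have hpt : vec pt = 0 := by
    show mkN (nOf pt) = 1
    rw [← map_one mkN]
    exact (huniq _ _).1 (by rw [hnOf, OneMemClass.coe_one, one_smul])
  refine ⟨fun q => col (vec q), fun a ha q => ?_⟩
  have hfix : a • pt = pt := hvinj _ _ ((hcol0 _ (by rw [← hpt]; exact ha pt)).trans hpt.symm)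
  have haH : a ∈ H := by
    have h1 : (QuotientGroup.mk (a * 1) : A ⧸ H) = QuotientGroup.mk 1 := hfix
    rw [QuotientGroup.eq] at h1
    simpa using h1
  have hmove : ∀ q, vec (a • q) = (⟨a, haH⟩ : H) • vec q := by
    intro q
    show mkN (nOf (a • q)) = mkN (ca a (nOf q))
    refine (huniq _ _).1 ?_
    rw [hnOf]
    show a • q = (a * (nOf q : A) * a⁻¹) • pt
    conv_rhs => rw [← hfix]
    rw [← mul_smul, inv_mul_cancel_right, mul_smul, hnOf]
  have hid := hcol ⟨a, haH⟩ fun x => by
    obtain ⟨n, hn⟩ := QuotientGroup.mk'_surjective (R.subgroupOf N) x.toMul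
    have hx : vec ((n : A) • pt) = x := by
      show mkN (nOf ((n : A) • pt)) = x.toMul
      rw [← hn]
      exact (huniq _ _).1 (hnOf _)
    rw [← hx, ← hmove]
    exact ha _
  exact hvinj _ _ ((hmove q).trans (hid _))

/-- As many colours as the characteristic. -/
theorem exists_colouring {A : Type} [Group A] [Finite A] [hs : Group.IsSolvable A] {p : ℕ} (hp : p.Prime)
    (hp2 : p ≠ 2) (hcop : (Nat.card A).Coprime p) (H : Subgroup A) (hH : H ≠ ⊤)
    (hmax : ∀ M : Subgroup A, H < M → M = ⊤) :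
    ∃ c : A ⧸ H → Fin p, ∀ a : A, (∀ q : A ⧸ H, c (a • q) = c q) → ∀ q : A ⧸ H, a • q = q := by
  rcases eq_or_ne p 3 with rfl | hp3
  · exact exists_colouring_three hcop H hH hmax
  have h5 : 5 ≤ p := by
    by_contra h
    have h2 := hp.two_le
    have hp4 : p ≠ 4 := fun e => absurd (e ▸ hp) (by norm_num)
    omega
  obtain ⟨c, hc⟩ := ThreeVec49.exists_colouring H hH hmax
  exact ⟨fun q => Fin.castLE h5 (c q), fun a ha => hc a fun q => Fin.castLE_injective h5 (ha q)⟩

end CfsgLib.CoprimePair
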